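import Mathlib.AlgebraicGeometry.Morphisms.Proper
import Mathlib.AlgebraicGeometry.Geometrically.Connected
import Mathlib.RingTheory.DiscreteValuationRing.Basic
import Mathlib.Topology.KrullDimension
import Mathlib.AlgebraicGeometry.Morphisms.QuasiFinite
import Groth.Agent.H23.RigidAb

/-!
# Fibres with few specializations, and surfaces over a discrete valuation ring
-/

set_option autoImplicit false
set_option linter.style.haveILetI false
set_option backward.isDefEq.respectTransparency false
set_option backward.isDefEq.respectTransparency.types false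

universe u

open CategoryTheory CategoryTheory.Limits AlgebraicGeometry TopologicalSpace

namespace Groth.Agent.H26.GGContract

/-- A connected noetherian sober space whose nontrivial specializations avoid `u` is `{u}`. -/
theorem eq_of_no_specialization {α : Type*} [TopologicalSpace α] [NoetherianSpace α] [QuasiSober α]
    [PreconnectedSpace α] {u : α} (h₁ : ∀ z, u ⤳ z → z = u) (h₂ : ∀ z, z ⤳ u → z = u) (z : α) : z = u := by
  have hcl : closure ({u} : Set α) = {u} :=
    Set.Subset.antisymm (fun w hw => h₁ w (specializes_iff_mem_closure.2 hw)) subset_closure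
  have hcomp : ∀ C : Set α, IsClosed C → IsIrreducible C → u ∈ C → C = {u} := fun C hC hCi hu => by
    obtain ⟨c, hc⟩ := QuasiSober.sober hCi hC
    have := h₂ c (hc.specializes hu)
    rw [this] at hc
    exact hc.symm.trans hcl
  obtain ⟨S, hSf, hSc, hSi, hSU⟩ := NoetherianSpace.exists_finite_set_isClosed_irreducible (isClosed_univ (X := α))
  have hcompl : ({u} : Set α)ᶜ = ⋃₀ {C | C ∈ S ∧ u ∉ C} := by
    ext w
    refine ⟨fun hw => ?_, fun ⟨C, ⟨_, hC⟩, hwC⟩ => fun hwu => hC (Set.mem_singleton_iff.1 hwu ▸ hwC)⟩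
    obtain ⟨C, hC, hwC⟩ : w ∈ ⋃₀ S := by rw [← hSU]; trivial
    exact ⟨C, ⟨hC, fun huC => hw ((hcomp C (hSc C hC) (hSi C hC) huC).le hwC)⟩, hwC⟩
  have hclopen : IsClopen ({u} : Set α) := by
    refine ⟨hcl ▸ isClosed_closure, ?_⟩
    rw [← isClosed_compl_iff, hcompl, Set.sUnion_eq_biUnion]
    exact (hSf.subset fun C hC => hC.1).isClosed_biUnion fun C hC => hSc C hC.1
  exact Set.mem_singleton_iff.1 ((hclopen.eq_univ (Set.singleton_nonempty u)).ge (Set.mem_univ z))

/-- In a geometrically connected morphism, a point without nontrivial specializations in its fibre is the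
whole fibre. -/
theorem eq_of_no_specialization_fibre {X Y : Scheme.{u}} (f : X ⟶ Y) [GeometricallyConnected f]
    [NoetherianSpace X] {x : X} (h₁ : ∀ z, x ⤳ z → f z = f x → z = x) (h₂ : ∀ z, z ⤳ x → f z = f x → z = x)
    {z : X} (hz : f z = f x) : z = x := by
  have hemb := (f.fiberι (f x)).isEmbedding
  haveI : NoetherianSpace ↥(f.fiber (f x)) := hemb.isInducing.noetherianSpace
  have hr := f.range_fiberι (f x)
  obtain ⟨x', hx'⟩ : x ∈ Set.range (f.fiberι (f x)) := hr ▸ (rfl : f x = f x)
  obtain ⟨z', hz'⟩ : z ∈ Set.range (f.fiberι (f x)) := hr ▸ hz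
  have hf : ∀ w, f (f.fiberι (f x) w) = f x := fun w => hr.le ⟨w, rfl⟩
  haveI : PreconnectedSpace ↥(f.fiber (f x)) :=
    ⟨hemb.isInducing.isPreconnected_image.1 (by
      rw [Set.image_univ, hr]
      exact H23.RigidAb.isPreconnected_preimage f (f x))⟩
  rw [← hz', eq_of_no_specialization (u := x') (fun w hw => ?_) (fun w hw => ?_) z', hx']
  · refine hemb.injective ((h₁ _ ?_ (hf w)).trans hx'.symm)
    have h := hw.map (f.fiberι (f x)).continuous
    rwa [hx'] at h
  · refine hemb.injective ((h₂ _ ?_ (hf w)).trans hx'.symm)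
    have h := hw.map (f.fiberι (f x)).continuous
    rwa [hx'] at h

/-- No chain of four points on a space of dimension two. -/
theorem no_chain {X : Scheme.{u}} (hdim : topologicalKrullDim X ≤ 2) {a b c d : X} (hab : a ⤳ b) (hbc : b ⤳ c)
    (hcd : c ⤳ d) (h1 : a ≠ b) (h2 : b ≠ c) (h3 : c ≠ d) : False := by
  rw [topologicalKrullDim, Order.krullDim_eq_of_orderIso irreducibleSetEquivPoints] at hdim
  have lt : ∀ {p q : X}, p ⤳ q → p ≠ q → q < p := fun hpq hne =>
    lt_iff_le_not_ge.2 ⟨hpq, fun h => hne (hpq.antisymm h).eq⟩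
  have e1 := Order.height_add_one_le (lt hcd h3)
  have e2 := Order.height_add_one_le (lt hbc h2)
  have e3 := Order.height_add_one_le (lt hab h1)
  have e4 : Order.height a ≤ (2 : ℕ∞) := WithBot.coe_le_coe.1 ((Order.height_le_krullDim a).trans hdim)
  have e5 : (3 : ℕ∞) ≤ Order.height a := calc
    (3 : ℕ∞) = 0 + 1 + 1 + 1 := by norm_num
    _ ≤ Order.height d + 1 + 1 + 1 := by gcongr; exact zero_le
    _ ≤ Order.height c + 1 + 1 := by gcongr
    _ ≤ Order.height b + 1 := by gcongr
    _ ≤ Order.height a := e3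
  exact absurd (e5.trans e4) (by decide)

/-- The two points of the spectrum of a discrete valuation ring. -/
theorem eq_closedPoint_or_eq_bot {R : Type u} [CommRing R] [IsDomain R] [IsDiscreteValuationRing R]
    (p : PrimeSpectrum R) : p = IsLocalRing.closedPoint R ∨ p = ⊥ := by
  by_cases hp : p.asIdeal = ⊥
  · exact Or.inr (PrimeSpectrum.ext hp)
  · haveI : p.asIdeal.IsMaximal := p.2.isMaximal hp
    exact Or.inl (PrimeSpectrum.ext (IsLocalRing.eq_maximalIdeal inferInstance))

theorem closedPoint_ne_bot (R : Type u) [CommRing R] [IsDomain R] [IsDiscreteValuationRing R] :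
    IsLocalRing.closedPoint R ≠ (⊥ : PrimeSpectrum R) := fun h =>
  IsDiscreteValuationRing.not_isField R (IsLocalRing.isField_iff_maximalIdeal_eq.2 (congrArg PrimeSpectrum.asIdeal h))

end Groth.Agent.H26.GGContract
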