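import Groth.Agent.H26.GGContract.Map
import Groth.Agent.H26.GGContract.Fibre
import Groth.Agent.H26.CompList
import Groth.Agent.H26.InterSymm
import Groth.Agent.S0388
import Groth.Agent.S1297
import Groth.Agent.S4716
import Groth.Agent.S11556
import Groth.Agent.Contract17.Normal
import Groth.Agent.GrpSchLib.FieldDim
import Groth.Agent.DescLib.SubtrVal
import Groth.Agent.SeesawX.PnSpec
import Groth.Agent.PnCoh.Chow.Proper
import Groth.Agent.H28.PnFlat
import Groth.Agent.AmpleVan.Components
import Groth.Agent.Pic13Lib.NumTrivBasic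
import Groth.Prelude.Def_Neron
import Groth.Prelude.Def_ArSurf

/-!
# The contraction given by a globally generated invertible module on a normal fibred surface
-/

set_option autoImplicit false
set_option linter.style.haveILetI false
set_option backward.isDefEq.respectTransparency false
set_option backward.isDefEq.respectTransparency.types false

universe u

open CategoryTheory CategoryTheory.Limits AlgebraicGeometry TopologicalSpace

namespace Groth.Agent.H26.GGContract

/-- A projective space over a ring has an ample module. -/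
theorem exists_ample_projSpace (R : Type u) [CommRing R] (n : ℕ) :
    ∃ M : (CohB1.ProjSpace n R).Modules, CohB1.IsAmple M := by
  classical
  let T := Finset.image (fun j : Fin (n + 1) => (MvPolynomial.X j : MvPolynomial (Fin (n + 1)) R)) Finset.univ
  refine ⟨_, AmpleX.isAmple_twist_one (CohB1.polyGrading n R) T (fun f hf => ?_) (top_le_iff.1 fun y _ => ?_)⟩
  · obtain ⟨j, -, rfl⟩ := Finset.mem_image.1 hf
    exact ProjPt.X_mem j
  · obtain ⟨j, hj⟩ := ProjUPX.cov_X y
    exact Opens.mem_iSup.2 ⟨⟨_, Finset.mem_image.2 ⟨j, Finset.mem_univ _, rfl⟩⟩, hj⟩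

/-- An affine morphism to projective space with proper composite gives projectivity. -/
theorem isProjectiveOver_of_affine {R : Type u} [CommRing R] {Y : Scheme.{u}} {n : ℕ}
    (h : Y ⟶ CohB1.ProjSpace n R) [IsAffineHom h] [CompactSpace Y]
    [IsProper (h ≫ CohB1.ProjSpace.toSpec n R)] :
    Neron.IsProjectiveOver R (Over.mk (h ≫ CohB1.ProjSpace.toSpec n R)) := by
  obtain ⟨M, hM⟩ := exists_ample_projSpace R n
  obtain ⟨N, j, hj, hj'⟩ := AmpleEmbed.exists_closedImmersion (h ≫ CohB1.ProjSpace.toSpec n R)
    (AmpleVan.FiniteSurj.isAmple_pullback_of_isAffineHom h hM)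
  obtain ⟨a, ha, -⟩ := SeesawX.PnSpec.exists_iso N R
  refine ⟨N, j ≫ a.inv, inferInstance, ?_⟩
  rw [Category.assoc, ← ha, Iso.inv_hom_id_assoc]
  exact hj'

theorem isIso_of_bijective_app {X Y : Scheme.{u}} (f : Y ⟶ X) [IsAffineHom f]
    (h : ∀ V : X.Opens, Function.Bijective (f.app V)) : IsIso f := by
  show MorphismProperty.isomorphisms Scheme.{u} f
  rw [HasAffineProperty.eq_targetAffineLocally (P := MorphismProperty.isomorphisms Scheme.{u})]
  intro V
  haveI : IsAffine (f ⁻¹ᵁ V.1).toScheme := V.2.preimage f
  refine ⟨inferInstance, ?_⟩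
  rw [Scheme.Hom.appTop, morphismRestrict_app]
  haveI : IsIso (f.app (V.1.ι ''ᵁ ⊤)) := (ConcreteCategory.isIso_iff_bijective _).2 (h _)
  infer_instance

/-- Points over the two points of the base. -/
theorem exists_contraction {R : Type u} [CommRing R] [IsDomain R] [IsDiscreteValuationRing R]
    (X : Over (Spec (CommRingCat.of R))) [IsIntegral X.left]
    (hnor : ∀ x : X.left, IsIntegrallyClosed (X.left.presheaf.stalk x))
    (hdim : topologicalKrullDim X.left = 2) [Flat X.hom] (hproj : Neron.IsProjectiveOver R X)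
    {r : ℕ} (Γ : Fin r → ArSurf.VertComp R X)
    (L : X.left.Modules) (hL : PicF.IsInvertible L) (hgg : Curv2.IsGloballyGenerated L)
    (hdeg : 0 < ArSurf.curveDeg (FractionRing R) ((Neron.genericFibre R).obj X).left
      ((Scheme.Modules.pullback (pullback.fst X.hom (Neron.genPt R))).obj L))
    (htriv : ∀ E : ArSurf.VertComp R X,
      Nonempty ((Scheme.Modules.pullback E.ι).obj L ≅ Coh.structureModule E.curve.left) ↔
        ∃ i, Set.range (E.ι.base : E.curve.left → X.left) = Set.range (Γ i).ι.base) :
    ∃ (Y : Over (Spec (CommRingCat.of R))) (f : X ⟶ Y),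
      IsIntegral Y.left ∧ (∀ q : Y.left, IsIntegrallyClosed (Y.left.presheaf.stalk q)) ∧
      topologicalKrullDim Y.left = 2 ∧ Flat Y.hom ∧ Neron.IsProjectiveOver R Y ∧
      (∀ i, ∃ y : Y.left, Set.range (((Γ i).ι ≫ f.left).base : (Γ i).curve.left → Y.left) = {y}) ∧
      f.left.base ⁻¹' (f.left.base '' ⋃ i, Set.range (Γ i).ι.base) = ⋃ i, Set.range (Γ i).ι.base ∧
      ∀ V : Y.left.Opens, (V : Set Y.left) ∩ f.left.base '' (⋃ i, Set.range (Γ i).ι.base) = ∅ →
        IsIso (f.left ∣_ V) := by
  obtain ⟨m, im, him, himc⟩ := hproj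
  haveI := him
  haveI := H28.PnFlat.isProper_pr m (Spec (CommRingCat.of R))
  haveI : IsProper X.hom := by
    rw [show X.hom = im ≫ CohB1.ProjSpaceOver.toBase m (Spec (CommRingCat.of R)) from himc.symm]
    exact MorphismProperty.comp_mem _ _ _ inferInstance inferInstance
  haveI : CompactSpace X.left := QuasiCompact.compactSpace_of_compactSpace X.hom
  haveI : IsLocallyNoetherian X.left := LocallyOfFiniteType.isLocallyNoetherian X.hom
  haveI : IsNoetherian X.left := {}
  obtain ⟨n, φ, hφ, hA, hB⟩ := exists_map X.hom hL hgg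
  haveI : IsProper (φ ≫ CohB1.ProjSpace.toSpec n R) := by rw [hφ]; infer_instance
  haveI : IsProper (CohB1.ProjSpace.toSpec n R) := Groth.Agent.PnCoh.Chow.isProper_toSpec n _
  haveI : IsProper φ := IsProper.of_comp φ (CohB1.ProjSpace.toSpec n R)
  haveI : IsLocallyNoetherian (CohB1.ProjSpace n R) :=
    LocallyOfFiniteType.isLocallyNoetherian (CohB1.ProjSpace.toSpec n R)
  have hbase : ∀ x, CohB1.ProjSpace.toSpec n R (φ x) = X.hom x := fun x => by
    rw [← Scheme.Hom.comp_apply, hφ]
  let η := genericPoint X.left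
  have hη : X.hom η = (⊥ : PrimeSpectrum R) := by
    obtain ⟨η', h1, h2⟩ := Flat.generalizingMap (f := X.hom) (a := η) (genericPoint_specializes (X.hom η))
    rw [(h1.antisymm (genericPoint_specializes η')).eq, genericPoint_eq_bot_of_affine (CommRingCat.of R)] at h2
    exact h2
  -- points of the generic fibre have no specializations in it
  have hclosedG : ∀ x z : X.left, x ≠ η → X.hom z = (⊥ : PrimeSpectrum R) → x ⤳ z → z = x := by
    intro x z hx hz hxz
    by_contra hne
    obtain ⟨w, hw1, hw2⟩ := X.hom.isClosedMap.specializingMap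
      (a := z) (show X.hom z ⤳ IsLocalRing.closedPoint R by
        rw [hz]; exact (PrimeSpectrum.le_iff_specializes _ _).1 bot_le)
    refine no_chain hdim.le (genericPoint_specializes x) hxz hw1 (Ne.symm hx) (Ne.symm hne) fun h => ?_
    rw [← h, hz] at hw2
    exact closedPoint_ne_bot R hw2.symm
  have hnotconst : ¬ ∀ z : X.left, X.hom z = (⊥ : PrimeSpectrum R) → φ z = φ η := by
    intro hc
    refine absurd hdeg (not_lt.2 (le_of_eq ?_))
    obtain ⟨e⟩ := hA _ (pullback.fst X.hom (Neron.genPt R)) (φ η) fun w => hc _ (by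
      rw [← Scheme.Hom.comp_apply, pullback.condition, Scheme.Hom.comp_apply]
      refine PrimeSpectrum.ext ?_
      show Ideal.comap (algebraMap R (FractionRing R)) _ = (⊥ : Ideal R)
      have h0 : (pullback.snd X.hom (Neron.genPt R) w).asIdeal = ⊥ :=
        (Ideal.eq_bot_or_top _).resolve_right (pullback.snd X.hom (Neron.genPt R) w).2.ne_top
      rw [h0]
      exact Ideal.comap_bot_of_injective _ (IsFractionRing.injective R (FractionRing R)))
    exact (Pic13Lib.NumTriv.curveDeg_congr (k := FractionRing R)
      ((Neron.genericFibre R).obj X).hom e).trans (sub_self _)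
  -- the closed point of the generic fibre is not in the fibre of the generic point
  have hηne : ∀ x : X.left, φ x = φ η → x = η := by
    intro x hx
    by_contra hne
    refine hnotconst fun z hz => ?_
    have hxG : X.hom x = (⊥ : PrimeSpectrum R) := by rw [← hbase, hx, hbase, hη]
    obtain ⟨w, hw1, hw2⟩ := φ.isClosedMap.specializingMap
      (a := x) (show φ x ⤳ φ z from hx ▸ (genericPoint_specializes z).map φ.continuous)
    have hwG : X.hom w = (⊥ : PrimeSpectrum R) := by rw [← hbase, hw2, hbase, hz]
    rw [← hw2, hclosedG x w hne hwG hw1, hx]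
  set T := ⋃ i, Set.range ((Γ i).ι.base : (Γ i).curve.left → X.left) with hT
  haveI := fun i => (Γ i).isClosedImmersion
  haveI := fun i => (Γ i).isIntegral
  -- specializations in a fibre of `φ` lie in the contracted curves
  have hspec : ∀ x z : X.left, x ⤳ z → x ≠ z → φ x = φ z → x ∈ T ∧ z ∈ T := by
    intro x z hxz hne he
    have hxη : x ≠ η := fun h => hne (h.trans (hηne z (he.symm.trans (congrArg φ h))).symm)
    have hbe : X.hom z = X.hom x := by rw [← hbase, ← he, hbase]
    have hxs : X.hom x = IsLocalRing.closedPoint R := by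
      refine (eq_closedPoint_or_eq_bot (X.hom x)).resolve_right fun h => ?_
      exact hne (hclosedG x z hxη (hbe.trans h) hxz).symm
    have hz : IsClosed ({z} : Set X.left) := by
      refine isClosed_of_closure_subset fun y hy => ?_
      by_contra hne'
      exact no_chain hdim.le (genericPoint_specializes x) hxz (specializes_iff_mem_closure.2 hy) hxη.symm hne
        fun h => hne' h.symm
    have hp : IsClosed ({φ x} : Set (CohB1.ProjSpace n R)) := by
      have h := φ.isClosedMap _ hz
      rw [Set.image_singleton, ← he] at h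
      exact h
    have hcomp : closure {x} ∈ Models.fibreComponents R X := by
      refine ⟨⟨isIrreducible_singleton.closure, closure_minimal (Set.singleton_subset_iff.2 hxs)
        (Models.isClosed_specialFibreSet R X)⟩, fun S hS hxS => ?_⟩
      obtain ⟨w, hw⟩ := QuasiSober.sober hS.1.closure isClosed_closure
      have hwx : w ⤳ x := hw.specializes (subset_closure (hxS (subset_closure rfl)))
      have hws : X.hom w = IsLocalRing.closedPoint R :=
        (closure_minimal hS.2 (Models.isClosed_specialFibreSet R X)) hw.mem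
      by_cases hwe : w = x
      · subst hwe
        exact subset_closure.trans hw.def.ge
      · refine (no_chain hdim.le (genericPoint_specializes w) hwx hxz (fun h => ?_) hwe hne).elim
        exact closedPoint_ne_bot R (hws.symm.trans ((congrArg X.hom h.symm).trans hη))
    obtain ⟨E, hE⟩ := CompList.exists_vertComp hdim hcomp
    obtain ⟨i, hi⟩ := (htriv E).1 (hA _ E.ι (φ x) fun c => by
      have hc : x ⤳ E.ι c := specializes_iff_mem_closure.2 (hE ▸ ⟨c, rfl⟩)
      exact Set.mem_singleton_iff.1 ((hc.map φ.continuous).mem_closed hp rfl))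
    rw [hE] at hi
    exact ⟨Set.mem_iUnion.2 ⟨i, hi ▸ subset_closure rfl⟩,
      Set.mem_iUnion.2 ⟨i, hi ▸ specializes_iff_mem_closure.1 hxz⟩⟩
  -- the Stein factorization
  let f := φ.toNormalization
  let g := φ.fromNormalization
  have hfg : f ≫ g = φ := φ.toNormalization_fromNormalization
  haveI : IsFinite g := S1297.result φ
  haveI : IsProper f := by
    haveI : IsProper (f ≫ g) := by rw [hfg]; infer_instance
    exact IsProper.of_comp f g
  haveI : IsIntegral φ.normalization := inferInstance
  haveI : CompactSpace φ.normalization := QuasiCompact.compactSpace_of_compactSpace (g ≫ CohB1.ProjSpace.toSpec n R)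
  haveI : IsLocallyNoetherian φ.normalization := LocallyOfFiniteType.isLocallyNoetherian g
  obtain ⟨hconn, hiso⟩ := S0388.result φ
  haveI := hconn
  have hφf : ∀ x, g (f x) = φ x := fun x => by rw [← Scheme.Hom.comp_apply, hfg]
  have hc : IsIso f.c := by
    haveI : ∀ U, IsIso (f.c.app U) := fun U => hiso U.unop
    exact NatIso.isIso_of_isIso_app f.c
  have hsurj : Function.Surjective f := Contract17.surjective_of_isIso_c f hc
  have hfib : ∀ x z, x ∉ T → f z = f x → z = x := fun x z hx hz =>
    eq_of_no_specialization_fibre f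
      (fun w hw hwe => by_contra fun hne =>
        hx (hspec x w hw (Ne.symm hne) (by rw [← hφf, ← hφf, hwe])).1)
      (fun w hw hwe => by_contra fun hne =>
        hx (hspec w x hw hne (by rw [← hφf, ← hφf, hwe])).2) hz
  have hpt : ∀ i c, f ((Γ i).ι.base c) = f ((Γ i).ι.base (genericPoint _)) := by
    intro i c
    haveI : IsProper ((Γ i).curve.hom ≫ Spec.map (CommRingCat.ofHom (IsLocalRing.residue R))) := by
      rw [← (Γ i).w]; infer_instance
    haveI : IsProper (Γ i).curve.hom := IsProper.of_comp _ (Spec.map (CommRingCat.ofHom (IsLocalRing.residue R)))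
    refine (GrpSchLib.eq_of_specializes_of_isIntegralHom g
      (((genericPoint_specializes c).map (Γ i).ι.continuous).map f.continuous) ?_).symm
    rw [hφf, hφf]
    exact hB _ _ (Γ i).curve.hom (Γ i).ι ((htriv (Γ i)).2 ⟨i, rfl⟩) _ _
  let Y : Over (Spec (CommRingCat.of R)) := Over.mk (g ≫ CohB1.ProjSpace.toSpec n R)
  refine ⟨Y, Over.homMk f (by
      show f ≫ g ≫ CohB1.ProjSpace.toSpec n R = X.hom
      rw [← Category.assoc, hfg, hφ]),
    inferInstanceAs (IsIntegral φ.normalization), fun q => ?_, ?_, ?_, isProjectiveOver_of_affine g,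
    fun i => ⟨f ((Γ i).ι.base (genericPoint _)), ?_⟩, ?_, fun V hV => ?_⟩
  · refine ((Contract17.isNormalScheme_of_isIso_c hfg hc (fun x => ⟨inferInstance, hnor x⟩)
      fun v => ⟨⊤, trivial, ?_⟩) q).2
    haveI : Nonempty ((⊤ : X.left.Opens) : Scheme.{u}) := ⟨⟨η, trivial⟩⟩
    exact isIntegral_of_isOpenImmersion (⊤ : X.left.Opens).ι
  · show topologicalKrullDim φ.normalization = 2
    refine le_antisymm (hdim ▸ S4716.result f hsurj (Or.inr f.isClosedMap)) ?_
    obtain ⟨x₁, hx₁, hne₁⟩ : ∃ x₁ : X.left, X.hom x₁ = (⊥ : PrimeSpectrum R) ∧ φ x₁ ≠ φ η := by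
      by_contra hall
      exact hnotconst fun z hz => by_contra fun h => hall ⟨z, hz, h⟩
    obtain ⟨x₀, hx₀, hx₀'⟩ := X.hom.isClosedMap.specializingMap
      (a := x₁) (show X.hom x₁ ⤳ IsLocalRing.closedPoint R by
        rw [hx₁]; exact (PrimeSpectrum.le_iff_specializes _ _).1 bot_le)
    have hlt : ∀ {p q : X.left}, p ⤳ q → φ p ≠ φ q → f q < f p := fun {p q} hpq hne =>
      lt_iff_le_not_ge.2 ⟨hpq.map f.continuous, fun h => hne (by
        rw [← hφf, ← hφf, ((hpq.map f.continuous).antisymm h).eq])⟩
    rw [topologicalKrullDim, Order.krullDim_eq_of_orderIso irreducibleSetEquivPoints]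
    refine le_trans ?_ (Order.LTSeries.length_le_krullDim
      (((RelSeries.singleton _ (f x₀)).snoc (f x₁) (hlt hx₀ fun h => ?_)).snoc (f η)
        (by rw [RelSeries.last_snoc]; exact hlt (genericPoint_specializes x₁) hne₁.symm)))
    · simp
    · exact closedPoint_ne_bot R ((hx₀'.symm.trans (hbase x₀).symm).trans
        ((congrArg _ h.symm).trans ((hbase x₁).trans hx₁)))
  · refine DescLib.flat_of_dominant_integral (Z := φ.normalization) (g ≫ CohB1.ProjSpace.toSpec n R) ?_
    have hgen : f η = genericPoint φ.normalization :=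
      (((genericPoint_spec X.left).image f.continuous).eq (by
        rw [Set.image_univ, hsurj.range_eq, closure_univ]; exact genericPoint_spec _))
    rw [← hgen, Scheme.Hom.comp_apply, hφf, hbase, hη]
    rfl
  · refine Set.Subset.antisymm ?_ ?_
    · rintro _ ⟨c, rfl⟩
      exact hpt i c
    · rintro _ rfl
      exact ⟨genericPoint _, rfl⟩
  · refine Set.Subset.antisymm (fun x hx => ?_) (Set.subset_preimage_image _ _)
    by_contra hxT
    obtain ⟨t, ht, hte⟩ := hx
    exact hxT (hfib x t hxT hte ▸ ht)
  · show IsIso (f ∣_ V)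
    haveI : LocallyQuasiFinite (f ∣_ V) := by
      refine LocallyQuasiFinite.of_finite_preimage_singleton (f ∣_ V) fun y => Set.Subsingleton.finite fun a ha b hb => ?_
      refine Subtype.ext ((hfib a.1 b.1 (fun haT => ?_) ?_).symm)
      · refine Set.eq_empty_iff_forall_notMem.1 hV (f a.1) ⟨a.2, a.1, haT, rfl⟩
      · have h1 := congrArg Subtype.val (Set.mem_singleton_iff.1 ha)
        have h2 := congrArg Subtype.val (Set.mem_singleton_iff.1 hb)
        erw [morphismRestrict_base_coe] at h1 h2
        exact h2.trans h1.symm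
    haveI : IsFinite (f ∣_ V) := IsFinite.of_isProper_of_locallyQuasiFinite _
    refine isIso_of_bijective_app (f ∣_ V) fun W => ?_
    haveI := hiso (V.ι ''ᵁ W)
    rw [morphismRestrict_app]
    exact ConcreteCategory.bijective_of_isIso _

end Groth.Agent.H26.GGContract
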