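import Groth.Agent.S3572
import Groth.Agent.Lib.AmpleEmbed
import Groth.Agent.Lib.GenLocusGG
import Groth.Agent.ProjUPX.Affine
import Groth.Agent.H23.TrivBasic

/-!
# The morphism to projective space of a globally generated invertible module
-/

set_option autoImplicit false
set_option linter.style.haveILetI false
set_option backward.isDefEq.respectTransparency false
set_option backward.isDefEq.respectTransparency.types false

universe u

open CategoryTheory CategoryTheory.Limits AlgebraicGeometry TopologicalSpace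
open Groth.Agent.H23 Groth.Agent.H23.TrivBasic

namespace Groth.Agent.H26.GGContract

variable {X : Scheme.{u}} {L : X.Modules}

/-- Finitely many generating sections. -/
theorem exists_sections [CompactSpace X] [Nonempty X] (hL : PicF.IsInvertible L)
    (hgg : Curv2.IsGloballyGenerated L) :
    ∃ (n : ℕ) (s : Fin (n + 1) → Γ(L, ⊤)), ∀ x : X, ∃ i, x ∈ locus (s i) := by
  classical
  choose t ht using GenLocusGG.exists_mem_locus hL hgg
  obtain ⟨F, hF⟩ := isCompact_univ.elim_finite_subcover (fun x : X => (locus (t x) : Set X))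
    (fun x => (locus (t x)).isOpen) (fun x _ => Set.mem_iUnion.2 ⟨x, ht x⟩)
  have hne : 0 < F.card := Finset.card_pos.2 (by
    obtain ⟨y, hy, -⟩ := Set.mem_iUnion₂.1 (hF (Set.mem_univ (Classical.arbitrary X)))
    exact ⟨y, hy⟩)
  refine ⟨F.card - 1, fun i => t (F.equivFin.symm (Fin.cast (Nat.sub_add_cancel hne) i)).1, fun x => ?_⟩
  obtain ⟨y, hy, hxy⟩ := Set.mem_iUnion₂.1 (hF (Set.mem_univ x))
  exact ⟨Fin.cast (Nat.sub_add_cancel hne).symm (F.equivFin ⟨y, hy⟩), by simpa using hxy⟩

/-- The morphism given by generating sections: the pullback of `L` is trivial exactly along morphisms with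
constant image, for connected proper curves over a field. -/
theorem exists_map {R : Type u} [CommRing R] [CompactSpace X] [Nonempty X] (q : X ⟶ Spec (CommRingCat.of R))
    (hL : PicF.IsInvertible L) (hgg : Curv2.IsGloballyGenerated L) :
    ∃ (n : ℕ) (r : X ⟶ CohB1.ProjSpace n R), r ≫ CohB1.ProjSpace.toSpec n R = q ∧
      (∀ (Z : Scheme.{u}) (v : Z ⟶ X) (p : CohB1.ProjSpace n R), (∀ z, r (v z) = p) →
        Nonempty ((Scheme.Modules.pullback v).obj L ≅ Coh.structureModule Z)) ∧
      ∀ (Z : Scheme.{u}) [IsIntegral Z] (K : Type u) [Field K] (g : Z ⟶ Spec (CommRingCat.of K))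
        [UniversallyClosed g] (v : Z ⟶ X),
        Nonempty ((Scheme.Modules.pullback v).obj L ≅ Coh.structureModule Z) → ∀ z z', r (v z) = r (v z') := by
  obtain ⟨n, s, hs⟩ := exists_sections hL hgg
  obtain ⟨r, hr, τ, hτ⟩ := S3572.result n q L hL s
    (ProjUPX.generatedBy_of_frames s fun x => by
      obtain ⟨i, hi⟩ := hs x
      obtain ⟨U, hxU, hU⟩ := mem_locus_iff.1 hi
      exact ⟨i, U, hxU, hU⟩)
  have hpre : ∀ i, r ⁻¹ᵁ Proj.basicOpen (CohB1.polyGrading n R) (MvPolynomial.X i) = locus (s i) := fun i =>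
    AmpleEmbed.preimage_chart r τ i (hτ i)
  refine ⟨n, r, hr, fun Z v p hp => ?_, fun Z _ K _ g _ v htriv z z' => ?_⟩
  · rcases isEmpty_or_nonempty Z with hZ | ⟨⟨z₀⟩⟩
    · exact triv_of_frame (locus_eq_top_iff.1 (top_le_iff.1 fun z _ => (hZ.false z).elim :
        locus (show Γ((Scheme.Modules.pullback v).obj L, ⊤) from InvX.pullElt v (s 0)) = ⊤))
    obtain ⟨i, hi⟩ := hs (v z₀)
    have hp0 : p ∈ Proj.basicOpen (CohB1.polyGrading n R) (MvPolynomial.X i) := by
      rw [← hpre i] at hi
      exact hp z₀ ▸ hi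
    refine triv_of_frame (e := show Γ((Scheme.Modules.pullback v).obj L, ⊤) from InvX.pullElt v (s i))
      (locus_eq_top_iff.1 (top_le_iff.1 fun z _ => ?_))
    rw [locus_pullElt hL v (s i), ← hpre i]
    exact (show r (v z) ∈ Proj.basicOpen _ _ from (hp z).symm ▸ hp0)
  · obtain ⟨i, hi⟩ := hs (v z)
    let σ : Γ((Scheme.Modules.pullback v).obj L, ⊤) := InvX.pullElt v (s i)
    have hzσ : z ∈ locus σ := by
      rw [locus_pullElt hL v (s i)]
      exact hi
    have hσ0 : σ ≠ 0 := fun h0 => by
      obtain ⟨U, hU, hf⟩ := mem_locus_iff.1 hzσ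
      rw [h0, map_zero] at hf
      haveI : Nontrivial Γ(Z, U) := by
        haveI : Nonempty U := ⟨⟨z, hU⟩⟩
        infer_instance
      exact zero_ne_one (hf.coord_unique le_rfl (by rw [zero_smul, map_zero, smul_zero]) : (0 : Γ(Z, U)) = 1)
    have hall : ∀ w, r (v w) ∈ Proj.basicOpen (CohB1.polyGrading n R) (MvPolynomial.X i) := fun w => by
      have hw : w ∈ locus σ := by
        rw [locus_eq_top_iff.2 (isFrame_of_ne_zero htriv (isField_of_universallyClosed K g) hσ0)]
        trivial
      rw [locus_pullElt hL v (s i), ← hpre i] at hw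
      exact hw
    let B := Proj.basicOpen (CohB1.polyGrading n R) (MvPolynomial.X i : MvPolynomial (Fin (n + 1)) R)
    haveI : IsAffine (B : Scheme.{u}) :=
      Proj.isAffineOpen_basicOpen (CohB1.polyGrading n R) _ (ProjPt.X_mem i) Nat.one_pos
    have hsub : Set.range (v ≫ r) ⊆ Set.range B.ι := by
      rintro _ ⟨w, rfl⟩
      rw [Scheme.Opens.range_ι, Scheme.Hom.comp_apply]
      exact hall w
    let h := IsOpenImmersion.lift B.ι (v ≫ r) hsub
    have hconst : h z = h z' := by
      haveI : Subsingleton (Spec Γ(Z, ⊤)) := by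
        letI : Field Γ(Z, ⊤) := (isField_of_universallyClosed K g).toField
        exact inferInstanceAs (Subsingleton (PrimeSpectrum Γ(Z, ⊤)))
      have e := Scheme.toSpecΓ_naturality h
      have e' : h = Z.toSpecΓ ≫ Spec.map h.appTop ≫ (B : Scheme.{u}).isoSpec.inv := by
        rw [← Category.assoc, ← e, Category.assoc]
        exact (Category.comp_id h).symm.trans (congrArg (h ≫ ·) (B : Scheme.{u}).isoSpec.hom_inv_id.symm)
      rw [e', Scheme.Hom.comp_apply, Scheme.Hom.comp_apply]
      exact congrArg _ (congrArg _ (Subsingleton.elim (Z.toSpecΓ z) (Z.toSpecΓ z')))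
    have e1 := congrArg B.ι hconst
    rw [← Scheme.Hom.comp_apply, ← Scheme.Hom.comp_apply, IsOpenImmersion.lift_fac] at e1
    exact e1

end Groth.Agent.H26.GGContract
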